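import Groth.Agent.AdeqZar.Compare
import Groth.Agent.EtaleSite.Flasque
import Groth.Agent.EtaleSite.HpullComp
import Groth.Prelude.Def_EtZar
import Groth.Prelude.Def_EtCore

/-! Zariski and etale cohomology of etale sheaves without higher cohomology on affine objects. -/

set_option autoImplicit false
set_option backward.isDefEq.respectTransparency false
set_option linter.unusedSectionVars false

universe u

open CategoryTheory CategoryTheory.Limits AlgebraicGeometry Opposite TopologicalSpace
open CategoryTheory.Abelian (Ext)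

noncomputable section

namespace Groth.Agent.EtZarCmp

open Groth.Agent.EtaleSite

variable {S : Scheme.{u}}

theorem hom_ext {X : S.Etale} {U : S.Opens} (f g : X ⟶ (EtZar.zarToEt S).obj U) : f = g :=
  MorphismProperty.Over.Hom.ext
    ((cancel_mono U.ι).1 ((MorphismProperty.Over.w f).trans (MorphismProperty.Over.w g).symm))

instance representablyFlat_zarToEt : RepresentablyFlat (EtZar.zarToEt S) where
  cofiltered X :=
    { nonempty :=
        ⟨StructuredArrow.mk (Y := (⊤ : S.Opens))
          (MorphismProperty.Over.homMk (X.hom ≫ S.topIso.inv) (by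
            change (X.hom ≫ S.topIso.inv) ≫ (⊤ : S.Opens).ι = X.hom
            rw [Category.assoc, ← Scheme.topIso_hom, Iso.inv_hom_id, Category.comp_id]))⟩
      cone_objs := fun A B => by
        let a : X.left ⟶ (A.right : Scheme.{u}) := A.hom.left
        let b : X.left ⟶ (B.right : Scheme.{u}) := B.hom.left
        have ha : a ≫ A.right.ι = X.hom := MorphismProperty.Over.w A.hom
        have hb : b ≫ B.right.ι = X.hom := MorphismProperty.Over.w B.hom
        let c := (isPullback_opens_inf A.right B.right).lift a b (ha.trans hb.symm)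
        exact ⟨StructuredArrow.mk (Y := A.right ⊓ B.right) (MorphismProperty.Over.homMk c (by
            change c ≫ (A.right ⊓ B.right).ι = X.hom
            rw [← S.homOfLE_ι (inf_le_left : A.right ⊓ B.right ≤ A.right), IsPullback.lift_fst_assoc]
            exact ha)),
          StructuredArrow.homMk (homOfLE inf_le_left) (hom_ext _ _),
          StructuredArrow.homMk (homOfLE inf_le_right) (hom_ext _ _), trivial⟩
      cone_maps := fun A B f g => ⟨A, 𝟙 A, congrArg (𝟙 A ≫ ·)
        (StructuredArrow.hom_ext f g (Subsingleton.elim _ _))⟩ }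

variable [EtZar.ZarCont S]

/-- The left adjoint of the restriction. -/
abbrev pullZar (S : Scheme.{u}) [EtZar.ZarCont S] : EtZar.Ab S ⥤ EtCoh.Ab S :=
  (EtZar.zarToEt S).sheafPullback AddCommGrpCat.{u + 1} (Opens.grothendieckTopology S) S.smallEtaleTopology

/-- The adjunction. -/
abbrev adj (S : Scheme.{u}) [EtZar.ZarCont S] : pullZar S ⊣ EtZar.resZar S :=
  (EtZar.zarToEt S).sheafAdjunctionContinuous AddCommGrpCat.{u + 1} (Opens.grothendieckTopology S)
    S.smallEtaleTopology

instance preservesFiniteLimits_pullZar : PreservesFiniteLimits (pullZar S) := by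
  have : PreservesFiniteLimits ((EtZar.zarToEt S).op.lan :
      (S.Opensᵒᵖ ⥤ AddCommGrpCat.{u + 1}) ⥤ _) :=
    FlatLan.preservesFiniteLimits_lan _ _ (fun X _ =>
      FlatLan.hasExactColimitsOfShape_of_essentiallySmall _ _)
  exact Functor.sheafPullbackConstruction.preservesFiniteLimits _ _ _ _

instance preservesFiniteColimits_pullZar : PreservesFiniteColimits (pullZar S) :=
  have := (adj S).leftAdjoint_preservesColimits
  inferInstance

instance additive_pullZar : (pullZar S).Additive :=
  Functor.additive_of_preserves_binary_products _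

instance preservesFiniteLimits_resZar : PreservesFiniteLimits (EtZar.resZar S) :=
  have := (adj S).rightAdjoint_preservesLimits
  inferInstance

instance additive_resZar : (EtZar.resZar S).Additive :=
  Functor.additive_of_preserves_binary_products _

/-- The whole space gives the final object. -/
def zarToEtTopTerminal : IsTerminal ((EtZar.zarToEt S).obj (⊤ : S.Opens)) :=
  (EtCore.topIsTerminal S).ofIso (MorphismProperty.Over.isoMk S.topIso.symm (by
    change S.topIso.inv ≫ (⊤ : S.Opens).ι = 𝟙 S
    rw [← Scheme.topIso_hom, Iso.inv_hom_id]))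

/-- The pullback of a constant sheaf is the constant sheaf. -/
def pullZarConstIso :
    constantSheaf (Opens.grothendieckTopology S) AddCommGrpCat.{u + 1} ⋙ pullZar S ≅
      constantSheaf S.smallEtaleTopology AddCommGrpCat.{u + 1} :=
  Adjunction.leftAdjointUniq
    ((constantSheafAdj (Opens.grothendieckTopology S) AddCommGrpCat.{u + 1} (AdeqZar.topTerminalOpens S)).comp
      (adj S))
    ((constantSheafAdj S.smallEtaleTopology AddCommGrpCat.{u + 1} (zarToEtTopTerminal (S := S))).ofNatIsoRight
      (NatIso.ofComponents (fun _ => Iso.refl _) (fun _ => by cat_disch)))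

/-- No higher cohomology on affine etale objects. -/
def AffVan (G : EtCoh.Ab S) : Prop :=
  ∀ (W : S.Etale), IsAffine W.left → ∀ q : ℕ, 0 < q → Subsingleton (Ext (Flasque.freeOn W) G q)

theorem affVan_iff (G : EtCoh.Ab S) :
    AffVan G ↔ ∀ (W : S.Etale), IsAffine W.left → ∀ q : ℕ, 0 < q →
      Subsingleton (EtCoh.H W.left ((EtCoh.pull W.hom).obj G) q) :=
  forall_congr' fun W => imp_congr_right fun _ => forall_congr' fun q => imp_congr_right fun _ =>
    (Flasque.subsingleton_H_iff W G q).symm

theorem surjective_sections {C : ShortComplex (EtCoh.Ab S)} (hC : C.ShortExact) (W : S.Etale)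
    [Subsingleton (Ext (Flasque.freeOn W) C.X₁ 1)] : Function.Surjective (C.g.hom.app (op W)) := by
  intro s
  obtain ⟨φ, rfl⟩ := (Flasque.freeSec_bijective W C.X₃).2 s
  obtain ⟨y, hy⟩ := Ext.covariant_sequence_exact₃ (Flasque.freeOn W) hC (Ext.mk₀ φ)
    (rfl : 0 + 1 = 1) (Subsingleton.elim _ _)
  obtain ⟨ψ, rfl⟩ := (Ext.mk₀_bijective _ _).2 y
  rw [Ext.mk₀_comp_mk₀] at hy
  exact ⟨Flasque.freeSec W C.X₂ ψ, by rw [← Flasque.freeSec_comp, (Ext.mk₀_bijective _ _).1 hy]⟩

theorem epi_resZar {C : ShortComplex (EtCoh.Ab S)} (hC : C.ShortExact) (h₁ : AffVan C.X₁) :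
    Epi ((EtZar.resZar S).map C.g) := by
  have : Sheaf.IsLocallySurjective ((EtZar.resZar S).map C.g) := ⟨fun {U} s x hx => by
    obtain ⟨V, hV, hxV, hVU⟩ := exists_isAffineOpen_mem_and_subset (U := U) hx
    let h : V ⟶ U := homOfLE hVU
    have := h₁ ((EtZar.zarToEt S).obj V) hV 1 one_pos
    obtain ⟨t, ht⟩ := surjective_sections hC ((EtZar.zarToEt S).obj V)
      (C.X₃.obj.map ((EtZar.zarToEt S).map h).op s)
    exact ⟨V, h, ⟨t, ht⟩, hxV⟩⟩
  exact Sheaf.epi_of_isLocallySurjective _

theorem isZero_RresZar [(EtZar.resZar S).Additive] (G : EtCoh.Ab S) (hG : AffVan G) (q : ℕ) (hq : 0 < q) :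
    IsZero (((EtZar.resZar S).rightDerived q).obj G) := by
  obtain ⟨k, rfl⟩ : ∃ k, q = k + 1 := ⟨q - 1, by omega⟩
  refine Flasque.isZero_rightDerived_of_class (EtZar.resZar S) AffVan (fun F hF => ?_) k G hG
  let C : ShortComplex (EtCoh.Ab S) :=
    ShortComplex.mk (Injective.ι F) (cokernel.π _) (cokernel.condition _)
  have : Epi C.g := coequalizer.π_epi
  have hC : C.ShortExact := { exact := ShortComplex.exact_cokernel _ }
  have : Injective C.X₂ := inferInstanceAs (Injective (Injective.under F))
  refine ⟨C, hC, rfl, this, fun W hW q hq => ?_, epi_resZar hC hF⟩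
  refine subsingleton_of_forall_eq 0 fun x => ?_
  have := hF W hW (q + 1) (by omega)
  obtain ⟨y, rfl⟩ := Ext.covariant_sequence_exact₃ (Flasque.freeOn W) hC x (rfl : q + 1 = q + 1)
    (Subsingleton.elim _ _)
  obtain ⟨m, rfl⟩ : ∃ m, q = m + 1 := ⟨q - 1, by omega⟩
  rw [Ext.eq_zero_of_injective y, Ext.zero_comp]

/-- The comparison of Zariski and etale cohomology. -/
theorem nonempty_zarH_equiv (G : EtCoh.Ab S) (hG : AffVan G) (n : ℕ) :
    Nonempty (EtZar.H ((EtZar.resZar S).obj G) n ≃+ EtCoh.H S G n) :=
  AdeqZar.nonempty_ext_equiv_of_adj (adj S)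
    ((pullZarConstIso (S := S)).app (AddCommGrpCat.of (ULift.{u + 1} ℤ))) G
    (isZero_RresZar G hG) n

end Groth.Agent.EtZarCmp
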